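import Groth.Agent.HilbFib.Pn
import Groth.Agent.ProjX.Chart
import Groth.Agent.CMReg7.PullVanish
import Groth.Agent.AmpleX.RelAffine

/-!
A power of an ample module on a proper scheme over a field embeds it into projective space.
-/

set_option linter.style.haveILetI false
set_option linter.unusedSectionVars false
set_option backward.isDefEq.respectTransparency false
set_option backward.isDefEq.respectTransparency.types false
set_option maxHeartbeats 1000000

universe u

open CategoryTheory CategoryTheory.Limits AlgebraicGeometry TopologicalSpace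

noncomputable section

namespace Groth.Agent.InvFam

theorem exists_closed_embedding (k : Type u) [Field k] {X : Scheme.{u}} [X.Over (Spec (CommRingCat.of k))]
    [IsProper (X ↘ Spec (CommRingCat.of k))] {A : X.Modules} (hA : CohB1.IsAmple A) :
    ∃ (d n : ℕ) (ι : X ⟶ CohB1.ProjSpace n k), 0 < d ∧ IsClosedImmersion ι ∧
      ι ≫ CohB1.ProjSpace.toSpec n k = X ↘ Spec (CommRingCat.of k) ∧
      Nonempty (CohB1.tensorPow A d ≅ (Scheme.Modules.pullback ι).obj (Twist.twistProjSpace n k 1)) := by
  haveI : LocallyOfFinitePresentation (X ↘ Spec (CommRingCat.of k)) := inferInstance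
  obtain ⟨d, n, i, hd, hi, -, hif, ⟨e⟩⟩ := HilbFib.exists_embedding (X ↘ Spec (CommRingCat.of k))
    ((AmpleX.isRelAmple_iff_isAmple _ A).2 hA)
  have hp : IsPullback (ProjX.pmap n (ProjX.zto k)) (CohB1.ProjSpace.toSpec n k)
      (CohB1.ProjSpace.toSpec n (ULift.{u} ℤ)) (specULiftZIsTerminal.from (Spec (CommRingCat.of k))) := by
    rw [specULiftZIsTerminal.hom_ext (specULiftZIsTerminal.from _) (Spec.map (CommRingCat.ofHom (ProjX.zto k)))]
    exact ProjX.isPullback_pmap n _
  let θ := hp.isoPullback
  have hθ : θ.inv ≫ ProjX.pmap n (ProjX.zto k) = pullback.fst _ _ := hp.isoPullback_inv_fst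
  haveI := hi
  haveI : IsClosedImmersion (i ≫ θ.inv) := inferInstance
  refine ⟨d, n, i ≫ θ.inv, hd, inferInstance, ?_, ?_⟩
  · rw [Category.assoc, hp.isoPullback_inv_snd]
    exact hif
  · obtain ⟨b⟩ := CMReg7.nonempty_pullback_twist n (ProjX.zto k) 1
    refine ⟨e ≪≫ ?_⟩
    refine (Scheme.Modules.pullback i).mapIso ((Scheme.Modules.pullbackCongr hθ).symm.app _ ≪≫
      (Scheme.Modules.pullbackComp θ.inv (ProjX.pmap n (ProjX.zto k))).symm.app _ ≪≫
      (Scheme.Modules.pullback θ.inv).mapIso b) ≪≫ (Scheme.Modules.pullbackComp i θ.inv).app _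

end Groth.Agent.InvFam
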