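import Groth.Agent.InvFam.Embed
import Groth.Agent.Bounded.TwistOn
import Groth.Agent.VolLib.UnifMain
import Groth.Agent.S10829

/-!
On a projective scheme the numerically trivial invertible modules form a bounded family.
-/

set_option linter.style.haveILetI false
set_option linter.unusedSectionVars false
set_option backward.isDefEq.respectTransparency false
set_option backward.isDefEq.respectTransparency.types false
set_option maxHeartbeats 1000000

universe u

open CategoryTheory CategoryTheory.Limits AlgebraicGeometry TopologicalSpace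
open Groth.Agent.H23.PicMul
open scoped Groth.Agent.H23.PicMul

noncomputable section

namespace Groth.Agent.InvFam

theorem isBounded_numTriv (k : Type u) [Field k] {X : Scheme.{u}} [X.Over (Spec (CommRingCat.of k))]
    [IsProper (X ↘ Spec (CommRingCat.of k))] {A : X.Modules} (hA : CohB1.IsAmple A) :
    Pic13.IsBounded k X (fun L : X.Modules => PicF.IsInvertible L ∧ Pic13.IsNumEquivZero k X L) := by
  classical
  obtain ⟨e, n, ι, he, hi, hι, ⟨φ⟩⟩ := exists_closed_embedding k hA
  haveI := hi
  haveI : IsNoetherian (CohB1.ProjSpace n k) := Proj16.isNoetherian_proj _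
  haveI := CurveCohLib.isNoetherian_of_proper (k := k) (X := X)
  let B := CohB1.tensorPow A e
  have hB : CohB1.IsAmple B := AmpleX.isAmple_tensorPow hA (by omega)
  have hBi := hB.1
  have hdimX : topologicalKrullDim X < (((n + 1 : ℕ)) : WithBot ℕ∞) := by
    refine lt_of_le_of_lt ((Scheme.Hom.isClosedEmbedding ι).isInducing.topologicalKrullDim_le.trans
      (le_of_eq (S10829.result k n))) ?_
    exact_mod_cast Nat.lt_succ_self n
  have hdim : ∀ M : X.Modules, topologicalKrullDim ↥(CohB1.support M) < (((n + 1 : ℕ)) : WithBot ℕ∞) :=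
    fun M => lt_of_le_of_lt (topologicalKrullDim_subspace_le X _) hdimX
  have hpow : ∀ t, Coh.IsCoh (CohB1.tensorPow B t) := fun t =>
    CurveDeg.isCoh_of_isInvertible (InvX.isInvertible_tensorPow hBi t)
  obtain ⟨m₀, hm₀⟩ := (VolLib.unif k hB (QCoh.isCoh_structureModule' (X := X)) (hdim _)).van
  have hL : Nonempty (B ≅ (Scheme.Modules.pullback ι).obj (Twist.twistProjSpace n k 1)) := ⟨φ⟩
  refine ((Bounded.isPresented_regular k n ((m₀ + n : ℕ) : ℤ) fun t =>
    Curv2.euler k X (CohB1.tensorPow B t)).restrict ι).mono ?_ |>.isBounded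
  intro L hLnt
  have hLc : Coh.IsCoh L := CurveDeg.isCoh_of_isInvertible hLnt.1
  refine ⟨hLc.1, QCoh.isCoh_pushforward_finite ι hLc, fun i hi hin => ?_, fun t => ?_⟩
  · obtain ⟨j, rfl⟩ : ∃ j, i = j + 1 := ⟨i - 1, by omega⟩
    obtain ⟨l, hl⟩ : ∃ l : ℕ, (l : ℤ) = ((m₀ + n : ℕ) : ℤ) - ((j + 1 : ℕ) : ℤ) := ⟨m₀ + n - (j + 1), by omega⟩
    rw [← hl]
    obtain ⟨h⟩ := UnifReg.nonempty_HH_twist ι hL hι hLc.1 l (j + 1)
    haveI := hm₀ L hLnt l (by omega) j
    obtain ⟨c⟩ : Nonempty ((AmpleVan.tw (VolLib.tP B L l)).obj (Coh.structureModule X) ≅ ShStab.twist X B L l) := by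
      refine cl_eq_iff.1 ?_
      show PicF.cl (CohB1.tensorMod (Coh.structureModule X) (CohB1.tensorMod L (CohB1.tensorPow B l))) =
        PicF.cl (CohB1.tensorMod L (CohB1.tensorPow B l))
      rw [cl_tensor, ← H23.PicMul.one_def, one_mul]
    haveI := QCoh.subsingleton_HH_of_iso c (j + 1) this
    exact h.symm.toEquiv.subsingleton
  · rw [UnifReg.chi_push ι hL hι hLc.1 t, ← (VolLib.unif k hB (hpow t) (hdim _)).chi L hLnt]
    refine CurveCohLib.euler_congr (k := k) (cl_eq_iff.1 ?_).some
    show PicF.cl (CohB1.tensorMod L (CohB1.tensorPow B t)) = PicF.cl (CohB1.tensorMod (CohB1.tensorPow B t) L)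
    rw [cl_tensor, cl_tensor, mul_comm]

end Groth.Agent.InvFam
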