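import Groth.Agent.InvFam.Family
import Groth.Agent.InvFam.NumBounded

/-!
Members of one invertible family differ by a module algebraically equivalent to zero.
-/

set_option linter.style.haveILetI false
set_option linter.unusedSectionVars false
set_option backward.isDefEq.respectTransparency false
set_option backward.isDefEq.respectTransparency.types false
set_option maxHeartbeats 1000000

universe u

open CategoryTheory CategoryTheory.Limits AlgebraicGeometry TopologicalSpace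
open Groth.Agent.H23.PicMul
open scoped Groth.Agent.H23.PicMul

noncomputable section

namespace Groth.Agent.InvFam

variable {k : Type u} [Field k] {X : Scheme.{u}} [X.Over (Spec (CommRingCat.of k))]
  [IsProper (X ↘ Spec (CommRingCat.of k))]

theorem Piece.isAlgEquivZero (C : Piece k X) {L L' D : X.Modules} (h : C.Mem L) (h' : C.Mem L')
    (hD : PicF.IsInvertible D) (hD' : Nonempty (CohB1.tensorMod L' D ≅ Coh.structureModule X)) :
    Pic13.IsAlgEquivZero k X (CohB1.tensorMod L D) := by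
  obtain ⟨t, ht, ⟨e⟩⟩ := h
  obtain ⟨t', ht', ⟨e'⟩⟩ := h'
  obtain ⟨w⟩ := hD'
  let p := pullback.fst (X ↘ Spec (CommRingCat.of k)) C.q
  let M := CohB1.tensorMod C.M ((Scheme.Modules.pullback p).obj D)
  have hfib : ∀ (s : Spec (CommRingCat.of k) ⟶ C.T) (hs : s ≫ C.q = 𝟙 _) (N : X.Modules),
      (Pic13.fibreMod k X C.q s hs C.M ≅ N) →
        Nonempty (Pic13.fibreMod k X C.q s hs M ≅ CohB1.tensorMod N D) := by
    intro s hs N f
    obtain ⟨a⟩ := H23.PicMul.pull (Pic13.sliceAt k X C.q s hs) C.M ((Scheme.Modules.pullback p).obj D)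
    exact ⟨a ≪≫ PicGrp.tensorModIso f ((Scheme.Modules.pullbackComp _ p).app D ≪≫
      (Scheme.Modules.pullbackCongr (show Pic13.sliceAt k X C.q s hs ≫ p = 𝟙 X from pullback.lift_fst _ _ _)).app D ≪≫
      (Scheme.Modules.pullbackId X).app D)⟩
  obtain ⟨f⟩ := hfib t ht L e
  obtain ⟨f'⟩ := hfib t' ht' L' e'
  exact ⟨C.T, C.q, C.connected, C.lft, C.qc, M,
    InvX.isInvertible_tensorMod C.inv (PicClLib.isInvertible_pullback p hD), t, t', ht, ht', ⟨f⟩, ⟨f' ≪≫ w⟩⟩

theorem exists_pieces_numTriv {A : X.Modules} (hA : CohB1.IsAmple A) :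
    ∃ (N : ℕ) (C : Fin N → Piece k X), ∀ L, VolLib.NT k L → ∃ i, (C i).Mem L := by
  obtain ⟨N, C, hC⟩ := exists_pieces (k := k) (isBounded_numTriv k hA)
  exact ⟨N, C, fun L hL => hC L hL hL.1⟩

/-- Numerically trivial modules on a projective scheme are τ-equivalent to zero. -/
theorem isTauEquivZero_of_numTriv {A : X.Modules} (hA : CohB1.IsAmple A) {L : X.Modules}
    (hL : PicF.IsInvertible L) (hnum : Pic13.IsNumEquivZero k X L) : Pic13.IsTauEquivZero k X L := by
  classical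
  obtain ⟨N, C, hC⟩ := exists_pieces_numTriv (k := k) hA
  have hp : ∀ j : ℕ, ∃ i, (C i).Mem (CohB1.tensorPow L j) := fun j => hC _ (VolLib.NT.pow ⟨hL, hnum⟩ j)
  choose c hc using hp
  obtain ⟨a, b, hab, hcab⟩ : ∃ a b : ℕ, a < b ∧ c a = c b := by
    obtain ⟨a, b, hne, h⟩ := Finite.exists_ne_map_eq_of_infinite c
    rcases lt_or_gt_of_ne hne with h' | h'
    · exact ⟨a, b, h', h⟩
    · exact ⟨b, a, h', h.symm⟩
  obtain ⟨D, hD, ⟨w⟩⟩ := H23.PicInv.exists_inverse (InvX.isInvertible_tensorPow hL a)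
  have h := Piece.isAlgEquivZero (C (c b)) (hc b) (hcab ▸ hc a) hD ⟨w⟩
  refine ⟨b - a, Nat.sub_pos_of_lt hab, ?_⟩
  obtain ⟨f⟩ : Nonempty (CohB1.tensorMod (CohB1.tensorPow L b) D ≅ CohB1.tensorPow L (b - a)) := by
    refine cl_eq_iff.1 ?_
    have hw : PicF.cl L ^ a * PicF.cl D = 1 := by
      rw [← cl_tensorPow, ← cl_tensor, H23.PicMul.one_def]; exact cl_eq_iff.2 ⟨w⟩
    rw [cl_tensor, cl_tensorPow, cl_tensorPow]
    calc PicF.cl L ^ b * PicF.cl D = PicF.cl L ^ (b - a) * (PicF.cl L ^ a * PicF.cl D) := by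
          rw [← mul_assoc, ← pow_add, Nat.sub_add_cancel hab.le]
      _ = PicF.cl L ^ (b - a) := by rw [hw, mul_one]
  obtain ⟨T, q, h1, h2, h3, M, hM, t, t₀, ht, ht₀, ⟨g⟩, g₀⟩ := h
  exact ⟨T, q, h1, h2, h3, M, hM, t, t₀, ht, ht₀, ⟨g ≪≫ f⟩, g₀⟩

end Groth.Agent.InvFam
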