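import Groth.Agent.InvFam.Open
import Groth.Agent.S1455
import Groth.Agent.GrpFieldLib.TwSplit

/-!
A bounded family of invertible modules is carried by finitely many invertible families over connected bases.
-/

set_option linter.style.haveILetI false
set_option linter.unusedSectionVars false
set_option backward.isDefEq.respectTransparency false
set_option backward.isDefEq.respectTransparency.types false
set_option maxHeartbeats 1000000

universe u

open CategoryTheory CategoryTheory.Limits AlgebraicGeometry TopologicalSpace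

noncomputable section

namespace Groth.Agent.InvFam

variable (k : Type u) [Field k] {X : Scheme.{u}} [X.Over (Spec (CommRingCat.of k))]
  [IsProper (X ↘ Spec (CommRingCat.of k))]

/-- An invertible family over a connected base of finite type. -/
structure Piece (X : Scheme.{u}) [X.Over (Spec (CommRingCat.of k))] where
  T : Scheme.{u}
  q : T ⟶ Spec (CommRingCat.of k)
  connected : ConnectedSpace T
  lft : LocallyOfFiniteType q
  qc : QuasiCompact q
  M : (Pic13.prodK k X q).Modules
  inv : PicF.IsInvertible M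

variable {k}

/-- The modules occurring at rational points of a piece. -/
def Piece.Mem (C : Piece k X) (L : X.Modules) : Prop :=
  ∃ (t : Spec (CommRingCat.of k) ⟶ C.T) (ht : t ≫ C.q = 𝟙 _), Nonempty (Pic13.fibreMod k X C.q t ht C.M ≅ L)

theorem finite_connectedComponents (Z : Scheme.{u}) [IsLocallyNoetherian Z] [CompactSpace Z] :
    ∃ S : Finset Z, ∀ z : Z, ∃ s ∈ S, z ∈ connectedComponent s := by
  haveI := GrpFieldLib.TwSplit.locallyConnectedSpace_of_isLocallyNoetherian Z
  obtain ⟨S, hS⟩ := isCompact_univ.elim_finite_subcover (fun z : Z => connectedComponent z)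
    (fun z => isOpen_connectedComponent) (fun z _ => Set.mem_iUnion.2 ⟨z, mem_connectedComponent⟩)
  exact ⟨S, fun z => by simpa using hS (Set.mem_univ z)⟩

theorem exists_piece_list_stratum {T Z : Scheme.{u}} (q : T ⟶ Spec (CommRingCat.of k)) [LocallyOfFiniteType q] [QuasiCompact q]
    (g : Z ⟶ T) [IsImmersion g] {F : (Pic13.prodK k X q).Modules} (hF : Coh.IsCoh F)
    (hfl : FlatMod.IsFlatOver (pullback.snd (pullback.snd (X ↘ Spec (CommRingCat.of k)) q) g)
      ((Scheme.Modules.pullback (pullback.fst (pullback.snd (X ↘ Spec (CommRingCat.of k)) q) g)).obj F)) :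
    ∃ (N : ℕ) (C : Fin N → Piece k X), ∀ (L : X.Modules), PicF.IsInvertible L →
      ∀ (t : Spec (CommRingCat.of k) ⟶ T) (ht : t ≫ q = 𝟙 _), Nonempty (Pic13.fibreMod k X q t ht F ≅ L) →
        t (IsLocalRing.closedPoint k) ∈ Set.range g → ∃ i, (C i).Mem L := by
  classical
  let str := X ↘ Spec (CommRingCat.of k)
  haveI : IsLocallyNoetherian T := LocallyOfFiniteType.isLocallyNoetherian q
  haveI : CompactSpace T := QuasiCompact.compactSpace_of_compactSpace q
  haveI : IsNoetherian T := {}
  haveI : IsLocallyNoetherian Z := LocallyOfFiniteType.isLocallyNoetherian g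
  haveI : NoetherianSpace Z := g.isEmbedding.isInducing.noetherianSpace
  haveI : QuasiCompact g := inferInstance
  let f₀ := pullback.snd str q
  let f := pullback.snd f₀ g
  haveI : IsProper f₀ := MorphismProperty.pullback_snd (P := @IsProper) _ _ ‹_›
  haveI : IsProper f := MorphismProperty.pullback_snd (P := @IsProper) _ _ ‹_›
  haveI : IsLocallyNoetherian (Pic13.prodK k X q) := LocallyOfFiniteType.isLocallyNoetherian f₀
  haveI : LocallyOfFinitePresentation f := inferInstance
  let G := (Scheme.Modules.pullback (pullback.fst f₀ g)).obj F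
  have hGp : CohB1.IsFP G := RGLib.Lim8.isFP_pullback _ hF.1 (KZ.LFRes.isFP_of_isCoh hF)
  obtain ⟨U, hU, hmemU⟩ := exists_open_invertible (k := k) f (QCoh.isQCoh_pullback _ hF.1) hGp hfl
  haveI : NoetherianSpace U.toScheme := U.ι.isEmbedding.isInducing.noetherianSpace
  obtain ⟨S, hS⟩ := finite_connectedComponents U.toScheme
  haveI := GrpFieldLib.TwSplit.locallyConnectedSpace_of_isLocallyNoetherian U.toScheme
  let Co : S → U.toScheme.Opens := fun s => ⟨connectedComponent s.1, isOpen_connectedComponent⟩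
  have hpiece : ∀ s : S, ∃ C : Piece k X, ∀ (L : X.Modules) (t : Spec (CommRingCat.of k) ⟶ T) (ht : t ≫ q = 𝟙 _),
      Nonempty (Pic13.fibreMod k X q t ht F ≅ L) →
        ∀ (l : Spec (CommRingCat.of k) ⟶ (Co s).toScheme), l ≫ (Co s).ι ≫ U.ι ≫ g = t → C.Mem L := by
    intro s
    let j : (Co s).toScheme ⟶ Z := (Co s).ι ≫ U.ι
    haveI : NoetherianSpace (Co s).toScheme := (Co s).ι.isEmbedding.isInducing.noetherianSpace
    let h₁ : Pic13.prodK k X (j ≫ g ≫ q) ⟶ Pic13.prodK k X q :=
      pullback.map _ _ _ _ (𝟙 X) (j ≫ g) (𝟙 _) (by simp) (by simp)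
    let h : Pic13.prodK k X (j ≫ g ≫ q) ⟶ pullback f₀ g :=
      pullback.lift h₁ (pullback.snd str (j ≫ g ≫ q) ≫ j) (by simp [h₁, f₀, str])
    have hh : h ≫ pullback.fst f₀ g = h₁ := pullback.lift_fst _ _ _
    let h' : Pic13.prodK k X (j ≫ g ≫ q) ⟶ (f ⁻¹ᵁ U).toScheme :=
      IsOpenImmersion.lift (f ⁻¹ᵁ U).ι h (by
        rw [Scheme.Opens.range_ι]
        rintro _ ⟨z, rfl⟩
        show f (h z) ∈ U
        rw [← Scheme.Hom.comp_apply, show h ≫ f = _ from pullback.lift_snd _ _ _]
        simp only [j, Scheme.Hom.comp_apply]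
        exact ((Co s).ι (pullback.snd str (((Co s).ι ≫ U.ι) ≫ g ≫ q) z)).2)
    have hinv : PicF.IsInvertible ((Scheme.Modules.pullback h₁).obj F) := by
      refine ParaFX.isInvertible_of_iso ?_ (PicClLib.isInvertible_pullback h' hU)
      exact (Scheme.Modules.pullback h').mapIso ((Scheme.Modules.restrictFunctorIsoPullback (f ⁻¹ᵁ U).ι).app G) ≪≫
        (Scheme.Modules.pullbackComp h' (f ⁻¹ᵁ U).ι).app G ≪≫
        (Scheme.Modules.pullbackCongr (IsOpenImmersion.lift_fac _ _ _)).app G ≪≫
        (Scheme.Modules.pullbackComp h (pullback.fst f₀ g)).app F ≪≫ (Scheme.Modules.pullbackCongr hh).app F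
    haveI : ConnectedSpace (Co s).toScheme := Subtype.connectedSpace isConnected_connectedComponent
    refine ⟨⟨(Co s).toScheme, j ≫ g ≫ q, ‹_›, inferInstance, inferInstance, _, hinv⟩, fun L t ht ⟨e⟩ l hl => ?_⟩
    have hlq : l ≫ j ≫ g ≫ q = 𝟙 _ := by
      rw [← ht, ← hl]; simp [j]
    refine ⟨l, hlq, ⟨(Scheme.Modules.pullbackComp _ h₁).app F ≪≫ (Scheme.Modules.pullbackCongr ?_).app F ≪≫ e⟩⟩
    refine pullback.hom_ext ?_ ?_ <;> simp [h₁, Pic13.sliceAt, j, ← hl]
  choose C hC using hpiece
  refine ⟨Fintype.card S, fun i => C ((Fintype.equivFin S).symm i), fun L hL t ht he hmem => ?_⟩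
  obtain ⟨t', ht'⟩ := HilbFib.exists_lift_field g t hmem
  let sl : X ⟶ pullback f₀ g := pullback.lift (Pic13.sliceAt k X q t ht) (str ≫ t') (by
    simp [f₀, str, Pic13.sliceAt, ht'])
  have sq : IsPullback sl str f t' :=
    IsPullback.of_right (by rw [pullback.lift_fst, ht']; exact Bounded.isPullback_slice q t ht)
      (pullback.lift_snd _ _ _) (IsPullback.of_hasPullback f₀ g)
  have htU : t' (IsLocalRing.closedPoint k) ∈ U := hmemU t' (g ≫ q) (by rw [← Category.assoc, ht', ht]) X sl str sq (by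
    refine ParaFX.isInvertible_of_iso ?_ hL
    exact (he.some.symm ≪≫ (Scheme.Modules.pullbackCongr (pullback.lift_fst _ _ _).symm).app F ≪≫
      ((Scheme.Modules.pullbackComp sl (pullback.fst f₀ g)).app F).symm))
  obtain ⟨tU, htU'⟩ := HilbFib.exists_lift_field U.ι t' (by rw [Scheme.Opens.range_ι]; exact htU)
  obtain ⟨s, hsS, hs⟩ := hS (tU (IsLocalRing.closedPoint k))
  obtain ⟨l, hl⟩ := HilbFib.exists_lift_field (Co ⟨s, hsS⟩).ι tU (by rw [Scheme.Opens.range_ι]; exact hs)
  refine ⟨Fintype.equivFin S ⟨s, hsS⟩, ?_⟩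
  simp only [Equiv.symm_apply_apply]
  exact hC _ L t ht he l (by rw [← Category.assoc, ← Category.assoc, hl, htU', ht'])

/-- A bounded family of invertible modules is carried by finitely many connected invertible families. -/
theorem exists_pieces {P : X.Modules → Prop} (hb : Pic13.IsBounded k X P) :
    ∃ (N : ℕ) (C : Fin N → Piece k X), ∀ L, P L → PicF.IsInvertible L → ∃ i, (C i).Mem L := by
  classical
  obtain ⟨T, q, hq, hqc, F, hF, hmem⟩ := hb
  haveI := hq
  haveI := hqc
  let str := X ↘ Spec (CommRingCat.of k)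
  let f₀ := pullback.snd str q
  haveI : IsProper f₀ := MorphismProperty.pullback_snd (P := @IsProper) _ _ ‹_›
  haveI : IsLocallyNoetherian T := LocallyOfFiniteType.isLocallyNoetherian q
  haveI : CompactSpace T := QuasiCompact.compactSpace_of_compactSpace q
  haveI : IsNoetherian T := {}
  haveI : LocallyOfFinitePresentation f₀ := inferInstance
  haveI : IsLocallyNoetherian (Pic13.prodK k X q) := LocallyOfFiniteType.isLocallyNoetherian f₀
  obtain ⟨t, I, -, hlast, h0, -, hflat⟩ := S1455.result f₀ F hF.1 (KZ.LFRes.isFP_of_isCoh hF)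
  let g : (i : Fin t) → (((I i.castSucc).subschemeι ⁻¹ᵁ (I i.succ).support.compl).toScheme ⟶ T) := fun i =>
    ((I i.castSucc).subschemeι ⁻¹ᵁ (I i.succ).support.compl).ι ≫ (I i.castSucc).subschemeι
  haveI : ∀ i, IsImmersion (g i) := fun i => inferInstance
  choose N C hC using fun i => exists_piece_list_stratum (k := k) q (g i) hF (hflat i)
  let e := (Fintype.equivFin (Σ i, Fin (N i))).symm
  refine ⟨Fintype.card (Σ i, Fin (N i)), fun a => C (e a).1 (e a).2, fun L hL hinv => ?_⟩
  obtain ⟨a, ha, he⟩ := hmem L hL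
  have hcov : ∀ s : T, ∃ i, s ∈ Set.range (g i) := fun s => by
    obtain ⟨i, h1, h2⟩ : ∃ i : Fin t, s ∈ (I i.castSucc).support ∧ s ∉ (I i.succ).support := by
      by_contra! hc
      have h : ∀ j : Fin (t + 1), s ∈ (I j).support := fun j => by
        induction j using Fin.induction with
        | zero => exact h0.ge (Set.mem_univ s)
        | succ i ih => exact hc i ih
      have h' := h (Fin.last t)
      rw [hlast, Scheme.IdealSheafData.support_top] at h'
      exact h'
    rw [← SetLike.mem_coe, ← (I i.castSucc).range_subschemeι] at h1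
    obtain ⟨z, rfl⟩ := h1
    exact ⟨i, ⟨z, h2⟩, rfl⟩
  obtain ⟨i, hi⟩ := hcov (a (IsLocalRing.closedPoint k))
  obtain ⟨b, hb⟩ := hC i L hinv a ha he hi
  exact ⟨e.symm ⟨i, b⟩, (congrArg (fun p : Σ i, Fin (N i) => (C p.1 p.2).Mem L) (e.apply_symm_apply ⟨i, b⟩)).mpr hb⟩

end Groth.Agent.InvFam
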