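import Groth.Agent.S12050
import Groth.Agent.QCoh.LocFree
import Groth.Agent.H23.DblAlg
import Groth.Agent.AVTheta8.Fibre
import Groth.Agent.Bounded.Family
import Groth.Agent.ParaFX.Closed

/-!
Near a rational point with invertible fibre a flat family is invertible.
-/

set_option linter.style.haveILetI false
set_option linter.unusedSectionVars false
set_option backward.isDefEq.respectTransparency false
set_option backward.isDefEq.respectTransparency.types false
set_option maxHeartbeats 1000000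

universe u

open CategoryTheory CategoryTheory.Limits AlgebraicGeometry TopologicalSpace
open scoped TensorProduct

noncomputable section

namespace Groth.Agent.InvFam

/-- The rank of the stalk near which the module is free. -/
theorem finrank_stalk_of_restrict_iso {X : Scheme.{u}} (F : X.Modules) (hFq : Coh.IsQCoh F) {U : X.Opens} {n : ℕ} {x : X}
    (hx : x ∈ U) (i : F.restrict U.ι ≅ FlatMod.freeMod (↑U) n) :
    Module.finrank (X.presheaf.stalk x) (F.presheaf.stalk x) = n := by
  obtain ⟨V, hV, hxV, hle⟩ := exists_isAffineOpen_mem_and_subset (U := U) hx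
  obtain ⟨l⟩ := QCoh.exists_linearEquiv_of_freeIso (QCoh.freeChart hV hle i)
  exact QCoh.finrank_stalk_of_freeChart hV hFq ((QCoh.chartEquiv hV F).trans l) hxV

variable {Z P S : Scheme.{u}} {k : Type u} [Field k] (f : P ⟶ S) {F : P.Modules}

/-- A flat module is invertible near every point of an invertible rational fibre. -/
theorem exists_nhd_of_invertible_fibre [LocallyOfFinitePresentation f] [QuasiCompact f] [QuasiSeparated f]
    (hFq : Coh.IsQCoh F) (hFp : CohB1.IsFP F) (hfl : FlatMod.IsFlatOver f F)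
    (a : Spec (CommRingCat.of k) ⟶ S) (g : S ⟶ Spec (CommRingCat.of k)) (ha : a ≫ g = 𝟙 _)
    {i : Z ⟶ P} {q : Z ⟶ Spec (CommRingCat.of k)} (sq : IsPullback i q f a)
    (hinv : PicF.IsInvertible ((Scheme.Modules.pullback i).obj F))
    {x : P} (hx : f x = a (IsLocalRing.closedPoint k)) :
    ∃ U : P.Opens, x ∈ U ∧ Nonempty (F.restrict U.ι ≅ Coh.structureModule (↑U)) := by
  let c := IsLocalRing.closedPoint k
  haveI : IsIso (a.residueFieldMap c) := by
    rw [ConcreteCategory.isIso_iff_bijective]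
    refine ⟨RingHom.injective _, ?_⟩
    have h := Scheme.residueFieldMap_comp a g c
    rw [Scheme.Hom.residueFieldMap_congr ha c] at h
    simp only [Scheme.residueFieldMap_id, Category.comp_id] at h
    haveI : IsIso (g.residueFieldMap (a c) ≫ a.residueFieldMap c) :=
      h ▸ IsIso.comp_isIso' (Iso.isIso_hom _) (IsIso.id _)
    exact Function.Surjective.of_comp (g := (g.residueFieldMap (a c)).hom)
      ((ConcreteCategory.isIso_iff_bijective (g.residueFieldMap (a c) ≫ a.residueFieldMap c)).1 inferInstance).2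
  haveI : IsIso ((Spec (CommRingCat.of k)).fromSpecResidueField c) :=
    AVTheta8.subsingleton_fiberH_iff.isIso_fromSpecResidueField_spec k
  let θ : Spec (S.residueField (a c)) ⟶ Spec (CommRingCat.of k) :=
    inv (Spec.map (a.residueFieldMap c)) ≫ (Spec (CommRingCat.of k)).fromSpecResidueField c
  have hθ : θ ≫ a = S.fromSpecResidueField (a c) := by
    rw [Category.assoc, IsIso.inv_comp_eq]
    exact (Scheme.Hom.SpecMap_residueFieldMap_fromSpecResidueField a c).symm
  haveI : IsIso θ := inferInstance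
  have sq' : IsPullback (f.fiberι (a c)) (pullback.snd f (S.fromSpecResidueField (a c)) ≫ θ) f a :=
    (IsPullback.of_hasPullback f (S.fromSpecResidueField (a c))).of_iso (Iso.refl _) (Iso.refl _) (asIso θ)
      (Iso.refl _) (by simp; rfl) (by simp) (by simp) (by simp [hθ])
  let e := sq'.isoIsPullback _ _ sq
  have he : e.hom ≫ i = f.fiberι (a c) := sq'.isoIsPullback_hom_fst _ _ sq
  have hinv' : PicF.IsInvertible ((Scheme.Modules.pullback (f.fiberι (a c))).obj F) :=
    H23.PicMul.isInvertible_of_iso ((Scheme.Modules.pullbackComp e.hom i).app F ≪≫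
      (Scheme.Modules.pullbackCongr he).app F) (PicClLib.isInvertible_pullback e.hom hinv)
  have hlf : FlatMod.IsFinLocFree ((Scheme.Modules.pullback (f.fiberι (a c))).obj F) := fun w => by
    obtain ⟨U, hU, ⟨φ⟩⟩ := hinv' w
    exact ⟨U, 1, hU, ⟨φ ≪≫ (H23.DblAlg.freeOneIso _).symm⟩⟩
  obtain ⟨w, rfl⟩ : x ∈ Set.range (f.fiberι (a c)) := by rw [f.range_fiberι]; exact hx
  obtain ⟨U, m, hxU, ⟨φ⟩⟩ := S1393.result f F hFq hFp _ (hfl _) (S12050.key f F hFq w hlf)
  have hm : m = 1 := by
    letI : Algebra (P.presheaf.stalk (f.fiberι (a c) w)) ((f.fiber (a c)).presheaf.stalk w) :=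
      ((f.fiberι (a c)).stalkMap w).hom.toAlgebra
    obtain ⟨el⟩ := QCoh.nonempty_pullStalkEquiv (f.fiberι (a c)) hFq w
    haveI := S12050.free_stalk_of_nhd F hFq hxU φ
    have h1 := el.finrank_eq
    rw [Module.finrank_baseChange, finrank_stalk_of_restrict_iso F hFq hxU φ] at h1
    obtain ⟨V, hV, ⟨ψ⟩⟩ := hinv' w
    rw [finrank_stalk_of_restrict_iso _ (QCoh.isQCoh_pullback _ hFq) hV (ψ ≪≫ (H23.DblAlg.freeOneIso _).symm)] at h1
    exact h1.symm
  subst hm
  exact ⟨U, hxU, ⟨φ ≪≫ H23.DblAlg.freeOneIso _⟩⟩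

/-- The points near whose fibre the family is invertible form an open set. -/
theorem exists_open_invertible [UniversallyClosed f] [LocallyOfFinitePresentation f] [QuasiCompact f] [QuasiSeparated f]
    (hFq : Coh.IsQCoh F) (hFp : CohB1.IsFP F) (hfl : FlatMod.IsFlatOver f F) :
    ∃ U : S.Opens, PicF.IsInvertible ((Scheme.Modules.restrictFunctor (f ⁻¹ᵁ U).ι).obj F) ∧
      ∀ (a : Spec (CommRingCat.of k) ⟶ S) (g : S ⟶ Spec (CommRingCat.of k)) (_ : a ≫ g = 𝟙 _)
        (Z : Scheme.{u}) (i : Z ⟶ P) (q : Z ⟶ Spec (CommRingCat.of k)) (_ : IsPullback i q f a),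
        PicF.IsInvertible ((Scheme.Modules.pullback i).obj F) → a (IsLocalRing.closedPoint k) ∈ U := by
  let W : Set P := {x | ∃ U : P.Opens, x ∈ U ∧ Nonempty (F.restrict U.ι ≅ Coh.structureModule (↑U))}
  have hW : IsOpen W := isOpen_iff_forall_mem_open.2 fun x ⟨U, hx, hn⟩ => ⟨U, fun y hy => ⟨U, hy, hn⟩, U.2, hx⟩
  refine ⟨⟨(f '' Wᶜ)ᶜ, (f.isClosedMap _ hW.isClosed_compl).isOpen_compl⟩, ?_, fun a g ha Z i q sq hinv => ?_⟩
  · let V := f ⁻¹ᵁ (⟨(f '' Wᶜ)ᶜ, (f.isClosedMap _ hW.isClosed_compl).isOpen_compl⟩ : S.Opens)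
    have hV : ∀ y : V.toScheme, ∃ U : P.Opens, V.ι y ∈ U ∧ Nonempty (F.restrict U.ι ≅ Coh.structureModule (↑U)) :=
      fun y => by_contra fun hc => y.2 ⟨_, hc, rfl⟩
    choose U hU hn using hV
    refine ParaFX.isInvertible_of_cover (fun y => V.ι ⁻¹ᵁ U y) (fun y => ⟨y, hU y⟩) fun y => ?_
    let T := V.ι ⁻¹ᵁ U y
    let a := IsOpenImmersion.lift (U y).ι (T.ι ≫ V.ι) (by
      rw [Scheme.Opens.range_ι]; rintro _ ⟨z, rfl⟩; exact z.2)
    have hfac : a ≫ (U y).ι = T.ι ≫ V.ι := IsOpenImmersion.lift_fac _ _ _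
    haveI : IsOpenImmersion (a ≫ (U y).ι) := by rw [hfac]; infer_instance
    haveI : IsOpenImmersion a := IsOpenImmersion.of_comp a (U y).ι
    have hinvU : PicF.IsInvertible (F.restrict (U y).ι) :=
      ParaFX.isInvertible_of_iso (hn y).some.symm InvX.isInvertible_structureModule
    exact ParaFX.isInvertible_of_iso (ParaFX.restrictTwice F a (U y).ι ≪≫
      (Scheme.Modules.restrictFunctorCongr hfac).app F ≪≫ (ParaFX.restrictTwice F T.ι V.ι).symm)
      (ParaFX.isInvertible_restrict a hinvU)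
  · rintro ⟨x, hx, hfx⟩
    exact hx (exists_nhd_of_invertible_fibre f hFq hFp hfl a g ha sq hinv hfx)

end Groth.Agent.InvFam
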